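import Cfsg.Agent.Helper29.S5677.Main
import Cfsg.Agent.Helper28.NonMax


set_option autoImplicit false
set_option linter.unusedSectionVars false
set_option linter.unusedVariables false

/-! # S5677: from the dichotomy to the maximality statement -/

namespace Cfsg.Agent.S5677P

open Matrix Cfsg.Agent.Helper28.Sg Cfsg.Agent.Helper28.Spin Cfsg.Agent.Helper12.OrthGen
  Cfsg.Agent.S2614 Cfsg.Agent.S5683P Cfsg.Agent.Helper28.NDM

variable {F : Type*} [Field F] {m t k : ℕ} {D : Fin t → Submodule F (Idx m → F)}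

namespace FINAL

/-- maximality, for the form `QfOdd m F` -/
theorem maximal_std [Fintype F] (h2 : (2 : F) ≠ 0) (hm : 6 ≤ m) (hD : HD k D)
    (hex : ¬ (Fintype.card F = 3 ∧ k = 3)) :
    Cfsg.Geo.IsMaximalIn (Cfsg.Geo.omegaGL ⇑(QfOdd m F))
      (Cfsg.Geo.decompositionStabilizer D ⊓ Cfsg.Geo.omegaGL ⇑(QfOdd m F)) := by
  classical
  have hm3 : 3 ≤ m := by omega
  refine ⟨lt_of_le_of_ne inf_le_right ?_, ?_⟩
  · intro heq
    obtain ⟨g, hgS, hgN⟩ := PROPER.exists h2 hD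
    apply hgN
    have hgΩ : ((g : OG m F) : Matrix.GeneralLinearGroup (Idx m) F) ∈
        Cfsg.Geo.omegaGL ⇑(QfOdd m F) := by
      rw [Cfsg.Agent.Helper28.NM.mem_omegaGL_iff]
      exact ⟨g, by rw [Omega_eq_S_odd h2 hm3]; exact hgS, rfl⟩
    rw [← heq] at hgΩ
    exact hgΩ.1
  · intro M hHM hMS
    set M' : Subgroup (OG m F) := M.comap (Cfsg.isometryGroup F ⇑(QfOdd m F)).subtype with hM'
    have hHM' : HS D ≤ M' := by
      intro g hg
      rw [mem_HS] at hg
      show ((g : OG m F) : Matrix.GeneralLinearGroup (Idx m) F) ∈ M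
      apply hHM
      refine Subgroup.mem_inf.2 ⟨hg.1, ?_⟩
      rw [Cfsg.Agent.Helper28.NM.mem_omegaGL_iff]
      exact ⟨g, by rw [Omega_eq_S_odd h2 hm3]; exact hg.2, rfl⟩
    rcases MAIN.dichotomy h2 hm3 hD hex hHM' with hall | hall
    · left
      apply le_antisymm _ hHM
      intro g hg
      refine Subgroup.mem_inf.2 ⟨?_, hMS hg⟩
      obtain ⟨h, hhΩ, rfl⟩ := (Cfsg.Agent.Helper28.NM.mem_omegaGL_iff (QfOdd m F) g).mp (hMS hg)
      exact hall (show h ∈ M' from hg)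
    · right
      apply le_antisymm hMS
      intro g hg
      obtain ⟨h, hhΩ, rfl⟩ := (Cfsg.Agent.Helper28.NM.mem_omegaGL_iff (QfOdd m F) g).mp hg
      rw [Omega_eq_S_odd h2 hm3] at hhΩ
      exact hall hhΩ

/-- **the decomposition stabilisers `O_k(q) ≀ S_t` are maximal in `Ω_{2m+1}(q)`** -/
theorem maximal [Fintype F] (hodd : Odd (Fintype.card F)) (hm : 6 ≤ m) (hk : 1 < k)
    (hD : Cfsg.Geo.IsOrthogonalMDecomposition (Cfsg.quadFormOdd m F) k D)
    (hex : ¬ (Fintype.card F = 3 ∧ k = 3)) :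
    Cfsg.Geo.IsMaximalIn (Cfsg.Geo.omegaGL (Cfsg.quadFormOdd m F))
      (Cfsg.Geo.decompositionStabilizer D ⊓ Cfsg.Geo.omegaGL (Cfsg.quadFormOdd m F)) := by
  classical
  have h2 : (2 : F) ≠ 0 := by
    apply Ring.two_ne_zero
    intro h
    rw [FiniteField.even_card_iff_char_two] at h
    rcases hodd with ⟨j, hj⟩
    omega
  have hstd := maximal_std h2 hm (BRIDGEHD.hd hk hD) hex
  rw [QfOdd_coe] at hstd
  exact hstd

end FINAL

end Cfsg.Agent.S5677P
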