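import Cfsg.Agent.Helper29.S5677.Defs2
import Cfsg.Agent.Helper10.S5677LINKS
import Cfsg.Agent.Helper10.S5677SEED
import Cfsg.Agent.Helper10.S5677SWAP
import Cfsg.Agent.Helper11.S5677CYC3
import Cfsg.Agent.Helper11.S5677UPERP
import Cfsg.Agent.Helper13.S5677ALLLINK
import Cfsg.Agent.Helper14.S5677X5HYP
import Cfsg.Agent.Helper14.S5677X5NEG
import Cfsg.Agent.Helper16.S5677LOCB1
import Cfsg.Agent.Helper16.S5677LOCB2
import Cfsg.Agent.Helper17.S5677DEP
import Cfsg.Agent.Helper17.S5677DIM3T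
import Cfsg.Agent.Helper17.S5677RADT
import Cfsg.Agent.Helper2.S5677BLK
import Cfsg.Agent.Helper2.S5677BRIDGEHD
import Cfsg.Agent.Helper2.S5677PROPER
import Cfsg.Agent.Helper2.S5677STEP0
import Cfsg.Agent.Helper20.S5677CMP1
import Cfsg.Agent.Helper20.S5677CMP2
import Cfsg.Agent.Helper21.S5677LOC
import Cfsg.Agent.Helper21.S5677PAIRROT
import Cfsg.Agent.Helper21.S5677SPREAD
import Cfsg.Agent.Helper22.S5677GEOA
import Cfsg.Agent.Helper22.S5677PMB
import Cfsg.Agent.Helper22.S5677SPREAD1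
import Cfsg.Agent.Helper22.S5677STAB
import Cfsg.Agent.Helper23.S5677OB3
import Cfsg.Agent.Helper23.S5677REFLMEM
import Cfsg.Agent.Helper23.S5677ROTEIG
import Cfsg.Agent.Helper23.S5677SIEGMEM
import Cfsg.Agent.Helper24.S5677GEOB
import Cfsg.Agent.Helper24.S5677GEOC
import Cfsg.Agent.Helper24.S5677LSUB
import Cfsg.Agent.Helper24.S5677SQGEN
import Cfsg.Agent.Helper25.S5677FULLRAD
import Cfsg.Agent.Helper25.S5677LINKCONJ
import Cfsg.Agent.Helper26.S5677LOCA
import Cfsg.Agent.Helper26.S5677PM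
import Cfsg.Agent.Helper7.S5677FIN
import Cfsg.Agent.Helper7.S5677GP
import Cfsg.Agent.Helper7.S5677LOC3G
import Cfsg.Agent.Helper7.S5677LOC3X
import Cfsg.Agent.Helper8.S5677PARTNER
import Cfsg.Agent.Helper8.S5677ROTEX
import Cfsg.Agent.Helper8.S5677UNIV

/-! # S5677: import hub of the 47 pieces (board `s5677pieces`) -/
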