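import Cfsg.Agent.Helper29.S5677.Defs2
import Cfsg.Agent.Helper29.S5677.Hub

set_option autoImplicit false
set_option linter.unusedSectionVars false
set_option linter.unusedVariables false

/-! # S5677, chapter C4: `G1 M D → S Q ≤ M` (assembly) -/

namespace Cfsg.Agent.S5677P

open Matrix Cfsg.Agent.Helper28.Sg Cfsg.Agent.Helper28.Spin Cfsg.Agent.Helper12.OrthGen
  Cfsg.Agent.S2614 Cfsg.Agent.S5683P Cfsg.Agent.Helper28.NDM

variable {F : Type*} [Field F] [Fintype F] {m t k : ℕ} {D : Fin t → Submodule F (Idx m → F)}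
  {M : Subgroup (OG m F)}

/-- **C4**: an overgroup of `HS D` with a long root element leaving a block contains `S(Q)` -/
theorem FULL.S_le (h2 : (2 : F) ≠ 0) (hm : 3 ≤ m) (hD : HD k D) (hHM : HS D ≤ M)
    (hG1 : G1 M D) : S (QfOdd m F) ≤ M := by
  obtain ⟨c, b, u, hQu, hcb, hu, hu0, hle⟩ := SEED.exists h2 hD hHM hG1
  have hL1 : Link M D b c := LINKS.of_one h2 hD hHM hcb hu hu0 hQu hle
  have hL := ALLLINK.all h2 hm hD hHM (Ne.symm hcb) hL1
  obtain ⟨e, f, he, hf, hp⟩ := BLK.hyp hD c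
  obtain ⟨w₀, hw₀, hQw₀⟩ := BLK.nonsing h2 hD b
  have he0 : e ≠ 0 := by
    rintro rfl
    have := hp.Bef
    simp [B] at this
  have hf0 : f ≠ 0 := by
    rintro rfl
    have := hp.Bef
    simp [B] at this
  refine S_le_of_rad (nondeg_odd h2 m) hp
    (fun w h1 _ => FULLRAD.mem hD hHM hL he he0 hp.Qe h1)
    (fun w _ h2' => FULLRAD.mem hD hHM hL hf hf0 hp.Qf h2')
    (w₀ := w₀) ?_ ?_ hQw₀
  · rw [B_comm]; exact BLK.orth' hD (Ne.symm hcb) hw₀ he
  · rw [B_comm]; exact BLK.orth' hD (Ne.symm hcb) hw₀ hf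

end Cfsg.Agent.S5677P
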